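import Groth.Agent.AlgSt88.Substack
import Groth.Agent.AlgSt88.FppfDescent
import Groth.Agent.AlgSt88.DiagCalc
import Groth.Agent.Fib44.Equiv

/-!
Open substacks cut out by an open subscheme on the base of every object, in any universes.
-/

set_option autoImplicit false
set_option maxHeartbeats 1000000
set_option linter.style.haveILetI false
set_option backward.isDefEq.respectTransparency false
set_option backward.isDefEq.respectTransparency.types false
universe u v w v₂ w₂ v₃ w₃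

open CategoryTheory CategoryTheory.Limits AlgebraicGeometry Opposite AlgSt FibCat

namespace Groth.Agent.CurvLoci2

open AlgSt88

variable {S : Scheme.{u}} {𝒳 : BasedCategory.{v, w} (Over S)} {Q : 𝒳.obj → Prop}
  {𝒜 : BasedCategory.{v₂, w₂} (Over S)} {ℬ : BasedCategory.{v₃, w₃} (Over S)}

/-- `Q` is cut out on the base of every object by an open subscheme. -/
def OpenCond (𝒳 : BasedCategory.{v, w} (Over S)) (Q : 𝒳.obj → Prop) : Prop :=
  ∀ x : 𝒳.obj, ∃ V : (𝒳.p.obj x).left.Opens,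
    ∀ (y : 𝒳.obj) (φ : y ⟶ x), Q y ↔ ∀ t, (𝒳.p.map φ).left t ∈ V

theorem OpenCond.of_hom (hQ : OpenCond 𝒳 Q) {x y : 𝒳.obj} (φ : y ⟶ x) (h : Q x) : Q y := by
  obtain ⟨V, hV⟩ := hQ x
  refine (hV y φ).2 fun t => ?_
  simpa using (hV x (𝟙 x)).1 h ((𝒳.p.map φ).left t)

theorem OpenCond.iso (hQ : OpenCond 𝒳 Q) : ObjectProperty.IsClosedUnderIsomorphisms Q :=
  ⟨fun e h => hQ.of_hom e.inv h⟩

theorem OpenCond.exists_chart (hQ : OpenCond 𝒳 Q) {U : Over S} (x : overCat U ⥤ᵇ 𝒳) :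
    ∃ V : U.left.Opens, ∀ b : Over U, Q (x.obj b) ↔ ∀ t, b.hom.left t ∈ V := by
  let b₀ : Over U := Over.mk (𝟙 U)
  let e : 𝒳.p.obj (x.obj b₀) = U := x.w_obj b₀
  obtain ⟨V₀, hV₀⟩ := hQ (x.obj b₀)
  refine ⟨(eqToHom e.symm).left ⁻¹ᵁ V₀, fun b => ?_⟩
  let m : b ⟶ b₀ := Over.homMk b.hom (Category.comp_id _)
  have hm : 𝒳.p.map (x.map m) = eqToHom (x.w_obj b) ≫ b.hom ≫ eqToHom e.symm := p_map_eq x m
  refine (hV₀ _ (x.map m)).trans ?_
  constructor
  · intro h t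
    have h1 := h ((eqToHom (x.w_obj b).symm).left t)
    rw [hm, ← Scheme.Hom.comp_apply, ← Over.comp_left, eqToHom_trans_assoc, eqToHom_refl, Category.id_comp,
      Over.comp_left, Scheme.Hom.comp_apply] at h1
    exact h1
  · intro h t
    rw [hm, Over.comp_left, Over.comp_left, Scheme.Hom.comp_apply, Scheme.Hom.comp_apply]
    exact h _

theorem fullSub_isHomLift_iff {x y : (fullSub 𝒳 Q).obj} {R T : Over S} (g : R ⟶ T) (φ : x ⟶ y) :
    (fullSub 𝒳 Q).p.IsHomLift g φ ↔ 𝒳.p.IsHomLift g φ.hom := by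
  constructor
  · intro h
    exact IsHomLift.of_fac' 𝒳.p g φ.hom (IsHomLift.domain_eq (fullSub 𝒳 Q).p g φ)
      (IsHomLift.codomain_eq (fullSub 𝒳 Q).p g φ) (IsHomLift.fac' (fullSub 𝒳 Q).p g φ)
  · intro h
    exact IsHomLift.of_fac' (fullSub 𝒳 Q).p g φ (IsHomLift.domain_eq 𝒳.p g φ.hom)
      (IsHomLift.codomain_eq 𝒳.p g φ.hom) (IsHomLift.fac' 𝒳.p g φ.hom)

theorem isFibGrpd_fullSub (hX : IsFibGrpd 𝒳.p) (hQ : OpenCond 𝒳 Q) : IsFibGrpd (fullSub 𝒳 Q).p where
  exists_lift := fun {x} {V} f => by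
    obtain ⟨y, φ, hφ⟩ := hX.exists_lift f
    let y' : (fullSub 𝒳 Q).obj := ⟨y, hQ.of_hom φ x.property⟩
    let φ' : y' ⟶ x := ObjectProperty.homMk φ
    exact ⟨y', φ', (fullSub_isHomLift_iff f φ').2 hφ⟩
  isStronglyCartesian := fun {y x} φ =>
    { universal_property' := fun {a'} g φ' hφ' => by
        haveI := hX.isStronglyCartesian φ.hom
        haveI : 𝒳.p.IsHomLift (g ≫ 𝒳.p.map φ.hom) φ'.hom := (fullSub_isHomLift_iff _ φ').1 hφ'
        obtain ⟨χ, ⟨h1, h2⟩, huniq⟩ := Functor.IsStronglyCartesian.universal_property' (p := 𝒳.p)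
          (f := 𝒳.p.map φ.hom) (φ := φ.hom) g φ'.hom
        refine ⟨ObjectProperty.homMk χ, ⟨(fullSub_isHomLift_iff _ (ObjectProperty.homMk χ)).2 h1,
          ObjectProperty.hom_ext _ h2⟩, ?_⟩
        rintro ψ ⟨h3, h4⟩
        exact ObjectProperty.hom_ext _ (huniq ψ.hom ⟨(fullSub_isHomLift_iff _ ψ).1 h3,
          congrArg (fun t => t.hom) h4⟩) }

/-- A functor with values in `Q` lifts to the full subcategory. -/
def liftSub (x : 𝒜 ⥤ᵇ 𝒳) (h : ∀ a, Q (x.obj a)) : 𝒜 ⥤ᵇ fullSub 𝒳 Q where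
  toFunctor :=
    { obj := fun a => ⟨x.obj a, h a⟩
      map := fun k => ObjectProperty.homMk (x.map k)
      map_id := fun a => ObjectProperty.hom_ext _ (x.map_id a)
      map_comp := fun k k' => ObjectProperty.hom_ext _ (x.map_comp k k') }
  w := x.w

theorem liftSub_comp (x : 𝒜 ⥤ᵇ 𝒳) (h : ∀ a, Q (x.obj a)) :
    BasedFunctor.comp (liftSub x h) (subIncl 𝒳 Q) = x := rfl

theorem isStack_fullSub (hX : Stk.IsStack (QuotSh.J Scheme.fppfPrecoverage S) 𝒳) (hQ : OpenCond 𝒳 Q) :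
    Stk.IsStack (QuotSh.J Scheme.fppfPrecoverage S) (fullSub 𝒳 Q) := by
  refine ⟨isFibGrpd_fullSub hX.1 hQ, fun U R hR => ?_⟩
  haveI hres : (Stk.resSieve R 𝒳).IsEquivalence := hX.2 R hR
  refine { faithful := ⟨fun {x₁ x₂ α β} h => ?_⟩, full := ⟨fun {x₁ x₂} θ => ?_⟩, essSurj := ⟨fun d => ?_⟩ }
  · have hh : BasedCategory.whiskerRight α (subIncl 𝒳 Q) = BasedCategory.whiskerRight β (subIncl 𝒳 Q) := by
      refine (Stk.resSieve R 𝒳).map_injective ?_
      apply BasedNatTrans.homCategory.ext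
      ext a
      exact congrArg (fun t => (t.toNatTrans.app a).hom) h
    apply BasedNatTrans.homCategory.ext
    ext a
    exact congrArg (fun t => t.toNatTrans.app a) hh
  · obtain ⟨ψ, hψ⟩ := (Stk.resSieve R 𝒳).map_surjective
      (X := BasedFunctor.comp x₁ (subIncl 𝒳 Q)) (Y := BasedFunctor.comp x₂ (subIncl 𝒳 Q))
      (BasedCategory.whiskerRight θ (subIncl 𝒳 Q))
    let η : x₁ ⟶ x₂ :=
      { toNatTrans :=
          { app := fun a => ObjectProperty.homMk (ψ.toNatTrans.app a)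
            naturality := fun a b g => ObjectProperty.hom_ext _ (ψ.toNatTrans.naturality g) }
        isHomLift' := fun a => (fullSub_isHomLift_iff _ _).2 (ψ.isHomLift' a) }
    refine ⟨η, ?_⟩
    apply BasedNatTrans.homCategory.ext
    ext a
    exact congrArg (fun t => t.toNatTrans.app a) hψ
  · let y := (Stk.resSieve R 𝒳).objPreimage (BasedFunctor.comp d (subIncl 𝒳 Q))
    let γ : BasedFunctor.comp (Stk.sieveIncl R) y ≅ BasedFunctor.comp d (subIncl 𝒳 Q) :=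
      (Stk.resSieve R 𝒳).objObjPreimageIso (BasedFunctor.comp d (subIncl 𝒳 Q))
    obtain ⟨V, hV⟩ := hQ.exists_chart y
    obtain ⟨W, c, hcR, -, hsurj⟩ := exists_fppf_members hR
    have htop : ∀ t : U.left, t ∈ V := fun t => by
      obtain ⟨s, hs⟩ := hsurj t
      let a : (Stk.sieveCat R).obj := ⟨Over.mk (c t), hcR t⟩
      have h := hQ.of_hom (γ.hom.toNatTrans.app a) (d.obj a).property
      have h' := (hV (Over.mk (c t))).1 h s
      rw [← hs]
      exact h'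
    let y' : overCat U ⥤ᵇ fullSub 𝒳 Q := liftSub y fun b => (hV b).2 fun t => htop _
    refine ⟨y', ⟨BasedNatIso.mkNatIso (NatIso.ofComponents
      (fun a => (ObjectProperty.fullyFaithfulι Q).preimageIso
        (((BasedNatTrans.forgetful _ _).mapIso γ).app a)) fun {a b} g => ?_) fun a => ?_⟩⟩
    · exact ObjectProperty.hom_ext _ (γ.hom.toNatTrans.naturality g)
    · exact (fullSub_isHomLift_iff _ _).2 (BasedNatTrans.isHomLift γ.hom rfl)

/-- Two functors into the full subcategory have the same fibre product there and in the ambient category. -/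
def fpIncl (y : 𝒜 ⥤ᵇ fullSub 𝒳 Q) (x : ℬ ⥤ᵇ fullSub 𝒳 Q) :
    fp y x ⥤ᵇ fp (BasedFunctor.comp y (subIncl 𝒳 Q)) (BasedFunctor.comp x (subIncl 𝒳 Q)) :=
  fpLift (fpFst y x) (fpSnd y x) (bRight (fpIso y x) (subIncl 𝒳 Q))

theorem isEquivOver_fpIncl (y : 𝒜 ⥤ᵇ fullSub 𝒳 Q) (x : ℬ ⥤ᵇ fullSub 𝒳 Q) : IsEquivOver (fpIncl y x) := by
  haveI : (fpIncl y x).toFunctor.Faithful := ⟨fun {z z' k k'} h =>
    fpHom_ext (congrArg (fun t => t.hom.fst) h) (congrArg (fun t => t.hom.snd) h)⟩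
  haveI : (fpIncl y x).toFunctor.Full := ⟨fun {z z'} k =>
    ⟨ObjectProperty.homMk { fst := k.hom.fst, snd := k.hom.snd, w := ObjectProperty.hom_ext _ k.hom.w },
      fpHom_ext rfl rfl⟩⟩
  refine Fib44.isEquivOver_of_essSurjOver _ fun η => ?_
  have hl : (fullSub 𝒳 Q).p.IsHomLift (𝟙 ((fp _ _).p.obj η))
      ((ObjectProperty.fullyFaithfulι Q).preimageIso η.obj.iso :
        y.obj η.obj.fst ≅ x.obj η.obj.snd).hom := (fullSub_isHomLift_iff _ _).2 η.property
  let ξ : (fp y x).obj :=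
    ⟨{ fst := η.obj.fst, snd := η.obj.snd, iso := (ObjectProperty.fullyFaithfulι Q).preimageIso η.obj.iso }, hl⟩
  refine ⟨ξ, fpObjIso (Iso.refl _) (Iso.refl _) ?_, fp_isHomLift _ (IsHomLift.id rfl)⟩
  simp only [Iso.refl_hom]
  change (BasedFunctor.comp y (subIncl 𝒳 Q)).map (𝟙 η.obj.fst) ≫ η.obj.iso.hom =
    η.obj.iso.hom ≫ (BasedFunctor.comp x (subIncl 𝒳 Q)).map (𝟙 η.obj.snd)
  refine ((congrArg (· ≫ η.obj.iso.hom) (CategoryTheory.Functor.map_id _ _)).trans (Category.id_comp _)).trans ?_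
  exact ((congrArg (η.obj.iso.hom ≫ ·) (CategoryTheory.Functor.map_id _ _)).trans (Category.comp_id _)).symm


/-- An open subscheme of a chart as a scheme over the base. -/
abbrev opensOver (U : Over S) (V : U.left.Opens) : Over S := Over.mk (V.ι ≫ U.hom)

/-- The inclusion of an open subscheme of a chart. -/
abbrev opensIncl (U : Over S) (V : U.left.Opens) : opensOver U V ⟶ U := Over.homMk V.ι rfl

/-- The part of a chart lying in `Q`. -/
def chartSub {U : Over S} {V : U.left.Opens} (x : overCat U ⥤ᵇ 𝒳)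
    (hV : ∀ b : Over U, Q (x.obj b) ↔ ∀ t, b.hom.left t ∈ V) : overCat (opensOver U V) ⥤ᵇ fullSub 𝒳 Q :=
  liftSub (BasedFunctor.comp (overMap (opensIncl U V)) x) fun b => (hV _).2 fun t => (b.hom.left t).property

theorem mono_opensIncl (U : Over S) (V : U.left.Opens) : Mono (opensIncl U V) :=
  (Over.forget S).mono_of_mono_map (inferInstanceAs (Mono V.ι))

theorem exists_lift_opens {U : Over S} {V : U.left.Opens} (a : Over U) (h : ∀ t, a.hom.left t ∈ V) :
    ∃ l : a.left ⟶ opensOver U V, l ≫ opensIncl U V = a.hom := by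
  have hr : Set.range a.hom.left ⊆ Set.range V.ι := by
    rw [Scheme.Opens.range_ι]
    rintro _ ⟨t, rfl⟩
    exact h t
  refine ⟨Over.homMk (IsOpenImmersion.lift V.ι a.hom.left hr) ?_, Over.OverMorphism.ext
    (IsOpenImmersion.lift_fac _ _ hr)⟩
  change IsOpenImmersion.lift V.ι a.hom.left hr ≫ V.ι ≫ U.hom = a.left.hom
  rw [← Category.assoc, IsOpenImmersion.lift_fac]
  exact Over.w a.hom

theorem rep_chartSub {P : MorphismProperty (AlgSp.Sp S)} (hQ : OpenCond 𝒳 Q) {U : Over S} {V : U.left.Opens}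
    {x : overCat U ⥤ᵇ 𝒳} (hV : ∀ b : Over U, Q (x.obj b) ↔ ∀ t, b.hom.left t ∈ V) (h : RepByAlgSpWith P x) :
    RepByAlgSpWith P (chartSub x hV) := by
  intro T y
  haveI := mono_opensIncl U V
  let y' := BasedFunctor.comp y (subIncl 𝒳 Q)
  let Φ : fp y (chartSub x hV) ⥤ᵇ fp y' x :=
    fpLift (fpFst y (chartSub x hV)) (BasedFunctor.comp (fpSnd y (chartSub x hV)) (overMap (opensIncl U V)))
      (bRight (fpIso y (chartSub x hV)) (subIncl 𝒳 Q))
  have hΦ : IsEquivOver Φ := by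
    haveI : Φ.toFunctor.Faithful := ⟨fun {z z' k k'} h => fpHom_ext (congrArg (fun t => t.hom.fst) h)
      (Over.OverMorphism.ext (congrArg (fun t : Φ.obj z ⟶ Φ.obj z' => t.hom.snd.left) h))⟩
    haveI : Φ.toFunctor.Full := ⟨fun {z z'} k => by
      have hk : k.hom.snd.left ≫ z'.obj.snd.hom = z.obj.snd.hom := by
        rw [← cancel_mono (opensIncl U V), Category.assoc]
        exact Over.w k.hom.snd
      refine ⟨ObjectProperty.homMk
        { fst := k.hom.fst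
          snd := Over.homMk k.hom.snd.left hk
          w := ObjectProperty.hom_ext _ ?_ }, fpHom_ext rfl (Over.OverMorphism.ext rfl)⟩
      exact k.hom.w.trans (congrArg (fun t => _ ≫ x.map t) (Over.OverMorphism.ext rfl))⟩
    refine Fib44.isEquivOver_of_essSurjOver _ fun η => ?_
    have hb : Q (x.obj η.obj.snd) := hQ.of_hom η.obj.iso.inv (y.obj η.obj.fst).property
    obtain ⟨l, hl⟩ := exists_lift_opens η.obj.snd ((hV _).1 hb)
    let b : Over (opensOver U V) := Over.mk l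
    let e : (overMap (opensIncl U V)).obj b ≅ η.obj.snd :=
      Over.isoMk (Iso.refl _) ((Category.id_comp _).trans hl.symm)
    let i : y.obj η.obj.fst ≅ (chartSub x hV).obj b :=
      (ObjectProperty.fullyFaithfulι Q).preimageIso (η.obj.iso ≪≫ (x.toFunctor.mapIso e).symm)
    have hi : i.hom.hom = η.obj.iso.hom ≫ x.map e.inv :=
      (ObjectProperty.fullyFaithfulι Q).map_preimage (X := y.obj η.obj.fst) (Y := (chartSub x hV).obj b) _
    have hlift : (fullSub 𝒳 Q).p.IsHomLift (𝟙 ((fp y' x).p.obj η)) i.hom := by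
      refine (fullSub_isHomLift_iff _ _).2 ?_
      rw [hi, ← Category.comp_id (𝟙 ((fp y' x).p.obj η))]
      haveI : 𝒳.p.IsHomLift (𝟙 ((fp y' x).p.obj η)) η.obj.iso.hom := η.property
      haveI : 𝒳.p.IsHomLift (𝟙 ((fp y' x).p.obj η)) (x.map e.inv) := by
        refine IsHomLift.of_fac' 𝒳.p _ _ (IsHomLift.codomain_eq 𝒳.p (𝟙 ((fp y' x).p.obj η)) η.obj.iso.hom)
          ((x.w_obj _).trans ((IsHomLift.codomain_eq 𝒳.p (𝟙 ((fp y' x).p.obj η)) η.obj.iso.hom).symm.trans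
            (x.w_obj η.obj.snd)).symm) ?_
        rw [p_map_eq]
        have he : (overCat U).p.map e.inv = 𝟙 η.obj.snd.left := rfl
        rw [he]
        exact (((congrArg (eqToHom _ ≫ ·) (Category.id_comp _)).trans (eqToHom_trans _ _)).trans
          (((congrArg (eqToHom _ ≫ ·) (Category.id_comp _)).trans (eqToHom_trans _ _)).symm))
      exact inferInstance
    let ξ : (fp y (chartSub x hV)).obj := ⟨{ fst := η.obj.fst, snd := b, iso := i }, hlift⟩
    refine ⟨ξ, fpObjIso (Iso.refl _) e ?_, fp_isHomLift _ (IsHomLift.id rfl)⟩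
    simp only [Iso.refl_hom]
    change y'.map (𝟙 η.obj.fst) ≫ η.obj.iso.hom = i.hom.hom ≫ x.map e.hom
    refine ((congrArg (· ≫ η.obj.iso.hom) (CategoryTheory.Functor.map_id _ _)).trans (Category.id_comp _)).trans ?_
    change η.obj.iso.hom = i.hom.hom ≫ x.map e.hom
    rw [hi, Category.assoc, ← Functor.map_comp, Iso.inv_hom_id]
    exact ((congrArg (η.obj.iso.hom ≫ ·) (CategoryTheory.Functor.map_id _ _)).trans (Category.comp_id _)).symm
  exact RepOver.transport' (h T y') hΦ (Iso.refl _)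

theorem rep_subIncl (hQ : OpenCond 𝒳 Q) : IsOpenImm (subIncl 𝒳 Q) := by
  intro U x
  obtain ⟨V, hV⟩ := hQ.exists_chart x
  haveI := mono_opensIncl U V
  let Ψ := chartSub x hV
  let Φ : overCat (opensOver U V) ⥤ᵇ fp x (subIncl 𝒳 Q) :=
    fpLift (overMap (opensIncl U V)) Ψ (Iso.refl _)
  have hΦ : IsEquivOver Φ := by
    haveI : Φ.toFunctor.Faithful := ⟨fun {b b' k k'} h =>
      Over.OverMorphism.ext (congrArg (fun t : Φ.obj b ⟶ Φ.obj b' => t.hom.fst.left) h)⟩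
    haveI : Φ.toFunctor.Full := ⟨fun {b b'} k => by
      have hk : k.hom.fst.left ≫ b'.hom = b.hom := by
        rw [← cancel_mono (opensIncl U V), Category.assoc]
        exact Over.w k.hom.fst
      refine ⟨Over.homMk k.hom.fst.left hk, fpHom_ext (Over.OverMorphism.ext rfl) (ObjectProperty.hom_ext _ ?_)⟩
      have hw : x.map k.hom.fst ≫ 𝟙 _ = 𝟙 _ ≫ k.hom.snd.hom := k.hom.w
      rw [Category.comp_id, Category.id_comp] at hw
      refine Eq.trans ?_ hw
      exact congrArg x.map (Over.OverMorphism.ext rfl)⟩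
    refine Fib44.isEquivOver_of_essSurjOver _ fun z => ?_
    have ha : Q (x.obj z.obj.fst) := hQ.of_hom z.obj.iso.hom z.obj.snd.property
    obtain ⟨l, hl⟩ := exists_lift_opens z.obj.fst ((hV _).1 ha)
    let e₁ : (overMap (opensIncl U V)).obj (Over.mk l) ≅ z.obj.fst :=
      Over.isoMk (Iso.refl _) ((Category.id_comp _).trans hl.symm)
    let e₂ : Ψ.obj (Over.mk l) ≅ z.obj.snd :=
      (ObjectProperty.fullyFaithfulι _).preimageIso (x.toFunctor.mapIso e₁ ≪≫ z.obj.iso)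
    have he₂ : e₂.hom.hom = x.map e₁.hom ≫ z.obj.iso.hom :=
      (ObjectProperty.fullyFaithfulι Q).map_preimage (X := Ψ.obj (Over.mk l)) (Y := z.obj.snd)
        (x.map e₁.hom ≫ z.obj.iso.hom)
    refine ⟨Over.mk l, fpObjIso e₁ e₂ ?_, fp_isHomLift _ ?_⟩
    · change x.map e₁.hom ≫ z.obj.iso.hom = 𝟙 _ ≫ e₂.hom.hom
      rw [he₂]
      exact (Category.id_comp _).symm
    · exact IsHomLift.of_fac' (overCat U).p _ _ rfl rfl
        (show 𝟙 z.obj.fst.left = 𝟙 _ ≫ 𝟙 _ ≫ 𝟙 _ by simp)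
  let V' := opensOver U V
  refine ⟨⟨_, AlgSp.IsAlgSpace.yon_obj V'⟩, BasedFunctor.comp (toOverCat V') Φ,
    isEquivOver_comp (isEquivOver_toOverCat V') hΦ, ?_⟩
  obtain ⟨ι⟩ := toOver_overMap (opensIncl U V)
  have h : spMapOfOver (BasedFunctor.comp (BasedFunctor.comp (toOverCat V') Φ) (fpFst x (subIncl 𝒳 Q))) =
      spMapOfOver (BasedFunctor.comp (ofSpMap ((AlgSp.yon S).map (opensIncl U V))) (toOverCat U)) :=
    spMapOfOver_congr ι
  rw [h, spMapOfOver_comp, spMapOfOver_toOverCat, homOfBased_ofSpMap, Category.comp_id]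
  exact (AlgSp.repWith_yon_map_iff _ _).2 (inferInstanceAs (IsOpenImmersion V.ι))

theorem diag_fullSub (hQ : OpenCond 𝒳 Q) (h : RepByAlgSp1 (FibCat.diag (FibCat.toSelf 𝒳))) :
    RepByAlgSp1 (FibCat.diag (FibCat.toSelf (fullSub 𝒳 Q))) := by
  intro U y
  let D := FibCat.diag (FibCat.toSelf (fullSub 𝒳 Q))
  let j : fp (toSelf (fullSub 𝒳 Q)) (toSelf (fullSub 𝒳 Q)) ⥤ᵇ fp (toSelf 𝒳) (toSelf 𝒳) :=
    fpLift (BasedFunctor.comp (fpFst _ _) (subIncl 𝒳 Q)) (BasedFunctor.comp (fpSnd _ _) (subIncl 𝒳 Q))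
      (fpIso (toSelf (fullSub 𝒳 Q)) (toSelf (fullSub 𝒳 Q)))
  let y' := BasedFunctor.comp y j
  let Φ : fp y D ⥤ᵇ fp y' (FibCat.diag (FibCat.toSelf 𝒳)) :=
    fpLift (fpFst y D) (BasedFunctor.comp (fpSnd y D) (subIncl 𝒳 Q)) (bRight (fpIso y D) j)
  refine repByAlgSp_of_equiv' (h U y') (e := Φ) ?_
  haveI : Φ.toFunctor.Faithful := ⟨fun {z z' k k'} h =>
    fpHom_ext (congrArg (fun t : Φ.obj z ⟶ Φ.obj z' => t.hom.fst) h)
      (ObjectProperty.hom_ext _ (congrArg (fun t : Φ.obj z ⟶ Φ.obj z' => t.hom.snd) h))⟩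
  haveI : Φ.toFunctor.Full := ⟨fun {z z'} k =>
    ⟨ObjectProperty.homMk
      { fst := k.hom.fst
        snd := ObjectProperty.homMk k.hom.snd
        w := fpHom_ext (ObjectProperty.hom_ext _ (congrArg (fun t => t.hom.fst) k.hom.w))
          (ObjectProperty.hom_ext _ (congrArg (fun t => t.hom.snd) k.hom.w)) },
      fpHom_ext rfl rfl⟩⟩
  refine Fib44.isEquivOver_of_essSurjOver _ fun η => ?_
  let a := y.obj η.obj.fst
  have hx : Q η.obj.snd := hQ.of_hom η.obj.iso.inv.hom.fst a.obj.fst.property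
  let s : (fullSub 𝒳 Q).obj := ⟨η.obj.snd, hx⟩
  let i : a ≅ D.obj s := fpObjIso
    ((ObjectProperty.fullyFaithfulι Q).preimageIso (X := a.obj.fst) (Y := s)
      ((fpFst (toSelf 𝒳) (toSelf 𝒳)).toFunctor.mapIso η.obj.iso))
    ((ObjectProperty.fullyFaithfulι Q).preimageIso (X := a.obj.snd) (Y := s)
      ((fpSnd (toSelf 𝒳) (toSelf 𝒳)).toFunctor.mapIso η.obj.iso))
    η.obj.iso.hom.hom.w
  have hi : (fp (toSelf (fullSub 𝒳 Q)) (toSelf (fullSub 𝒳 Q))).p.IsHomLift (𝟙 ((fp y' _).p.obj η)) i.hom := by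
    haveI : (fp (toSelf 𝒳) (toSelf 𝒳)).p.IsHomLift (𝟙 ((fp y' _).p.obj η)) η.obj.iso.hom := η.property
    refine fp_isHomLift _ ((fullSub_isHomLift_iff _ _).2 ?_)
    exact inferInstanceAs (𝒳.p.IsHomLift (𝟙 ((fp y' _).p.obj η)) ((fpFst (toSelf 𝒳) (toSelf 𝒳)).map η.obj.iso.hom))
  let ξ : (fp y D).obj := ⟨{ fst := η.obj.fst, snd := s, iso := i }, hi⟩
  refine ⟨ξ, fpObjIso (Iso.refl _) (Iso.refl _) ?_, fp_isHomLift _ (IsHomLift.id rfl)⟩
  simp only [Iso.refl_hom]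
  change y'.map (𝟙 η.obj.fst) ≫ η.obj.iso.hom = _ ≫ (FibCat.diag (toSelf 𝒳)).map (𝟙 η.obj.snd)
  refine ((congrArg (· ≫ η.obj.iso.hom) (CategoryTheory.Functor.map_id _ _)).trans (Category.id_comp _)).trans ?_
  refine Eq.trans ?_ ((congrArg (_ ≫ ·) (CategoryTheory.Functor.map_id _ _)).trans (Category.comp_id _)).symm
  exact fpHom_ext rfl rfl

theorem isAlgStack_fullSub (hX : IsAlgStack Scheme.fppfPrecoverage 𝒳) (hQ : OpenCond 𝒳 Q) :
    IsAlgStack Scheme.fppfPrecoverage (fullSub 𝒳 Q) := by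
  refine ⟨isStack_fullSub hX.isStack hQ, diag_fullSub hQ hX.diag, ?_⟩
  obtain ⟨U, x, h1, h2⟩ := hX.atlas
  obtain ⟨V, hV⟩ := hQ.exists_chart x
  exact ⟨opensOver U V, chartSub x hV, rep_chartSub hQ hV h1, rep_chartSub hQ hV h2⟩

theorem isOpenSubstack_of_openCond (hX : IsAlgStack Scheme.fppfPrecoverage 𝒳) (hQ : OpenCond 𝒳 Q) :
    IsOpenSubstack 𝒳 Q Scheme.fppfPrecoverage :=
  ⟨hQ.iso, isAlgStack_fullSub hX hQ, rep_subIncl hQ⟩

end Groth.Agent.CurvLoci2
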